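import Mathlib

/-!
Descent of ring maps and morphisms to affine schemes from a pair of algebras meeting in the base,
after tensoring with a flat algebra.
-/

set_option autoImplicit false

universe u

open CategoryTheory CategoryTheory.Limits AlgebraicGeometry TensorProduct

namespace Groth.TorsNormal

variable {A K A' L : Type u} [CommRing A] [CommRing K] [CommRing A'] [CommRing L]
  [Algebra A K] [Algebra A A'] [Algebra A L] (ιK : K →ₐ[A] L) (ι' : A' →ₐ[A] L)
  (B : Type u) [CommRing B] [Algebra A B] [Module.Flat A B]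

/-- An element of `B ⊗ K` whose image in `B ⊗ L` comes from `B ⊗ A'` lies in `B`. -/
theorem exists_of_meet (hι : Function.Injective ι')
    (hmeet : ∀ x y, ιK x = ι' y → ∃ a, algebraMap A K a = x) (z : B ⊗[A] K) (z' : B ⊗[A] A')
    (h : Algebra.TensorProduct.map (AlgHom.id A B) ιK z = Algebra.TensorProduct.map (AlgHom.id A B) ι' z') :
    ∃ b : B, b ⊗ₜ[A] (1 : K) = z := by
  let f : A →ₗ[A] K × A' := (Algebra.linearMap A K).prod (Algebra.linearMap A A')
  let g : K × A' →ₗ[A] L := ιK.toLinearMap.coprod (-ι'.toLinearMap)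
  have hfg : Function.Exact f g := by
    intro p
    constructor
    · intro hp
      have hp' : ιK p.1 = ι' p.2 := by
        simpa [g, ← sub_eq_add_neg, sub_eq_zero] using hp
      obtain ⟨a, ha⟩ := hmeet _ _ hp'
      refine ⟨a, Prod.ext ha (hι ?_)⟩
      rw [← hp', ← ha, ιK.commutes]
      exact ι'.commutes a
    · rintro ⟨a, rfl⟩
      simp [f, g]
  have hex := Module.Flat.lTensor_exact B hfg
  let w : B ⊗[A] (K × A') := (TensorProduct.prodRight A A B K A').symm (z, z')
  have key : g.lTensor B = ((Algebra.TensorProduct.map (AlgHom.id A B) ιK).toLinearMap.coprod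
      (-(Algebra.TensorProduct.map (AlgHom.id A B) ι').toLinearMap)) ∘ₗ
      (TensorProduct.prodRight A A B K A').toLinearMap := by
    ext b k <;> simp [g, TensorProduct.tmul_neg]
  have hw : g.lTensor B w = 0 := by
    rw [key]
    simp [w]
    rw [add_neg_eq_zero]
    exact h
  obtain ⟨t, ht⟩ := (hex w).1 hw
  refine ⟨TensorProduct.rid A B t, ?_⟩
  have hfst : ∀ t : B ⊗[A] A, (TensorProduct.prodRight A A B K A' (f.lTensor B t)).1 =
      TensorProduct.rid A B t ⊗ₜ[A] (1 : K) := by
    intro t
    induction t using TensorProduct.induction_on with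
    | zero => simp
    | tmul b a =>
      simp [f]
      rw [Algebra.algebraMap_eq_smul_one, TensorProduct.tmul_smul, TensorProduct.smul_tmul',
        Algebra.smul_def]
    | add s r hs hr => simp [hs, hr, TensorProduct.add_tmul]
  rw [← hfst, ht]
  simp [w]

theorem includeLeft_injective (hK : Function.Injective (algebraMap A K)) :
    Function.Injective (Algebra.TensorProduct.includeLeftRingHom : B →+* B ⊗[A] K) :=
  Algebra.TensorProduct.includeLeft_injective (S := A) hK

variable {B}

/-- Morphisms from the spectrum of a subring to an affine scheme are determined on the bigger ring. -/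
theorem hom_ext_of_injective {B' C' : CommRingCat.{u}} (φ : B' ⟶ C') (hφ : Function.Injective φ)
    {Y : Scheme.{u}} [IsAffine Y] {a b : Spec B' ⟶ Y} (h : Spec.map φ ≫ a = Spec.map φ ≫ b) : a = b := by
  rw [← cancel_mono Y.isoSpec.hom, ← Spec.map_preimage (a ≫ Y.isoSpec.hom),
    ← Spec.map_preimage (b ≫ Y.isoSpec.hom)]
  congr 1
  have : Spec.preimage (a ≫ Y.isoSpec.hom) ≫ φ = Spec.preimage (b ≫ Y.isoSpec.hom) ≫ φ := by
    apply Spec.map_injective
    rw [Spec.map_comp, Spec.map_comp, Spec.map_preimage, Spec.map_preimage, reassoc_of% h]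
  ext x
  exact hφ (ConcreteCategory.congr_hom this x)

/-- A morphism to an affine scheme defined over `B ⊗ K` descends to `B` when it agrees over
`B ⊗ L` with one defined over `B ⊗ A'`. -/
theorem exists_descend (hK : Function.Injective (algebraMap A K)) (hι : Function.Injective ι')
    (hmeet : ∀ x y, ιK x = ι' y → ∃ a, algebraMap A K a = x) {Y : Scheme.{u}} [IsAffine Y]
    (m : Spec (CommRingCat.of (B ⊗[A] K)) ⟶ Y) (m' : Spec (CommRingCat.of (B ⊗[A] A')) ⟶ Y)
    (h : Spec.map (CommRingCat.ofHom (Algebra.TensorProduct.map (AlgHom.id A B) ιK).toRingHom) ≫ m =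
      Spec.map (CommRingCat.ofHom (Algebra.TensorProduct.map (AlgHom.id A B) ι').toRingHom) ≫ m') :
    ∃ d : Spec (CommRingCat.of B) ⟶ Y,
      Spec.map (CommRingCat.ofHom Algebra.TensorProduct.includeLeftRingHom) ≫ d = m := by
  let β := Spec.preimage (m ≫ Y.isoSpec.hom)
  let β' := Spec.preimage (m' ≫ Y.isoSpec.hom)
  have hββ : β ≫ CommRingCat.ofHom (Algebra.TensorProduct.map (AlgHom.id A B) ιK).toRingHom =
      β' ≫ CommRingCat.ofHom (Algebra.TensorProduct.map (AlgHom.id A B) ι').toRingHom := by
    apply Spec.map_injective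
    rw [Spec.map_comp, Spec.map_comp, Spec.map_preimage, Spec.map_preimage, reassoc_of% h]
  have hex : ∀ x, ∃ b : B, b ⊗ₜ[A] (1 : K) = β x := fun x =>
    exists_of_meet ιK ι' B hι hmeet _ _ (ConcreteCategory.congr_hom hββ x)
  choose r hr using hex
  have hinj := includeLeft_injective B hK
  have hr' : ∀ x, (Algebra.TensorProduct.includeLeftRingHom : B →+* B ⊗[A] K) (r x) = β x := hr
  let γ : Γ(Y, ⊤) ⟶ CommRingCat.of B := CommRingCat.ofHom
    { toFun := r
      map_one' := hinj (by rw [hr', map_one, map_one])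
      map_mul' := fun s t => hinj (by rw [hr', map_mul, map_mul, hr', hr'])
      map_zero' := hinj (by rw [hr', map_zero, map_zero])
      map_add' := fun s t => hinj (by rw [hr', map_add, map_add, hr', hr']) }
  have hγ : γ ≫ CommRingCat.ofHom Algebra.TensorProduct.includeLeftRingHom = β := by
    ext x; exact hr' x
  refine ⟨Spec.map γ ≫ Y.isoSpec.inv, ?_⟩
  rw [← Category.assoc, ← Spec.map_comp, hγ, Spec.map_preimage, Category.assoc, Iso.hom_inv_id,
    Category.comp_id]

end Groth.TorsNormal
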