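import Mathlib
import Groth.Prelude.Def_Pi1
import Groth.Agent.TorsNormal.Descend
import Groth.Agent.TorsProper.Extend
import Groth.Agent.TorsProper.Points
import Groth.Agent.NeronArea.StalkGlue
import Groth.Agent.Variety2.Normal

/-!
An equivariant isomorphism of finite flat torsors over a normal integral scheme, given at the generic
point, extends.
-/

set_option autoImplicit false
set_option backward.isDefEq.respectTransparency false

universe u

open CategoryTheory CategoryTheory.Limits MonoidalCategory CartesianMonoidalCategory MonObj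
open AlgebraicGeometry TensorProduct
open Groth.TorsProper (genMove genMove_nat genMove_act genMove_symm symmIso)

noncomputable section

namespace Groth.TorsNormal

variable {X U₀ : Scheme.{u}} [IsIntegral X] (j : U₀ ⟶ X)

/-- The generic point. -/
abbrev gen (X : Scheme.{u}) [IsIntegral X] : Spec X.functionField ⟶ X := X.fromSpecStalk (genericPoint X)

instance subsingleton_gen (X : Scheme.{u}) [IsIntegral X] : Subsingleton (Spec X.functionField) :=
  inferInstanceAs (Subsingleton (PrimeSpectrum X.functionField))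

instance quasiCompact_gen (X : Scheme.{u}) [IsIntegral X] : QuasiCompact (gen X) :=
  ⟨fun V _ _ => (Set.toFinite _).isCompact⟩

instance schDominant_gen (X : Scheme.{u}) [IsIntegral X] : IsSchemeTheoreticallyDominant (gen X) := by
  haveI : IsDominant (gen X) := ⟨fun x => by
    refine closure_mono ?_ ((genericPoint_spec X).specializes (Set.mem_univ x)).mem_closure
    exact Set.singleton_subset_iff.2 ⟨_, Scheme.fromSpecStalk_closedPoint⟩⟩
  exact .of_isDominant _

/-- A point of an integral scheme over a normal affine base, with values in a field, extends to the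
integral closure. -/
theorem exists_point_intClosure {V : X.Opens} (hV : IsAffineOpen V) {Y : Scheme.{u}} (p : Y ⟶ X)
    [IsIntegralHom p] (L : Type u) [Field L] [Algebra Γ(X, V) L]
    (w : Spec (CommRingCat.of L) ⟶ Y)
    (hw : w ≫ p = Spec.map (CommRingCat.ofHom (algebraMap Γ(X, V) L)) ≫ hV.fromSpec) :
    ∃ x : Spec (CommRingCat.of (integralClosure Γ(X, V) L)) ⟶ Y,
      x ≫ p = Spec.map (CommRingCat.ofHom (algebraMap Γ(X, V) (integralClosure Γ(X, V) L))) ≫ hV.fromSpec ∧
      Spec.map (CommRingCat.ofHom (integralClosure Γ(X, V) L).val.toRingHom) ≫ x = w := by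
  let W : Y.Opens := p ⁻¹ᵁ V
  have hW : IsAffineOpen W := hV.preimage p
  have htop : (⊤ : (Spec (CommRingCat.of L)).Opens) ≤ w ⁻¹ᵁ W := fun z _ => by
    show p (w z) ∈ V
    rw [← Scheme.Hom.comp_apply, hw, Scheme.Hom.comp_apply]
    exact hV.range_fromSpec.le (Set.mem_range_self _)
  let φ : Γ(Y, W) ⟶ CommRingCat.of L := w.appLE W ⊤ htop ≫ (Scheme.ΓSpecIso _).hom
  have hφ : Spec.map φ ≫ hW.fromSpec = w := by
    rw [Spec.map_comp, Category.assoc, IsAffineOpen.SpecMap_appLE_fromSpec w hW (isAffineOpen_top _) htop,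
      IsAffineOpen.fromSpec_top, ← Scheme.isoSpec_Spec_hom, Iso.hom_inv_id_assoc]
  have hψ : p.app V ≫ φ = CommRingCat.ofHom (algebraMap Γ(X, V) L) := by
    apply Spec.map_injective
    rw [← cancel_mono hV.fromSpec, Spec.map_comp, Category.assoc, ← Scheme.Hom.appLE_eq_app,
      IsAffineOpen.SpecMap_appLE_fromSpec p hV hW, reassoc_of% hφ, hw]
  have hint : ∀ b : Γ(Y, W), IsIntegral Γ(X, V) (φ b : L) := fun b => by
    obtain ⟨f, hf, hfb⟩ := IsIntegralHom.isIntegral_app p V hV b
    have h1 : ((φ.hom).comp (p.app V).hom).IsIntegralElem (φ b) :=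
      ⟨f, hf, by rw [← Polynomial.hom_eval₂, hfb, map_zero]⟩
    rw [← CommRingCat.hom_comp, hψ] at h1
    exact h1
  let β : Γ(Y, W) ⟶ CommRingCat.of (integralClosure Γ(X, V) L) :=
    CommRingCat.ofHom (φ.hom.codRestrict (integralClosure Γ(X, V) L) hint)
  have hβ : β ≫ CommRingCat.ofHom (integralClosure Γ(X, V) L).val.toRingHom = φ := rfl
  have hβp : p.app V ≫ β = CommRingCat.ofHom (algebraMap Γ(X, V) (integralClosure Γ(X, V) L)) := by
    refine CommRingCat.hom_ext (RingHom.ext fun s => Subtype.ext ?_)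
    exact ConcreteCategory.congr_hom hψ s
  refine ⟨Spec.map β ≫ hW.fromSpec, ?_, ?_⟩
  · rw [Category.assoc, ← IsAffineOpen.SpecMap_appLE_fromSpec p hV hW le_rfl, Scheme.Hom.appLE_eq_app,
      ← Spec.map_comp_assoc, hβp]
  · rw [← Category.assoc, ← Spec.map_comp, hβ, hφ]

variable {G P Q : Over X} [GrpObj G] {a : AlgGrp.Action G P} {b : AlgGrp.Action G Q}
  (e : NonAbH1.EquivIso (a.bc j) (b.bc j))

theorem genMove_congr {Z Z₁ Z₂ : Over U₀} (h₁ : Z ⟶ Z₁) (h₂ : Z ⟶ Z₂) (z₁ : (Over.map j).obj Z₁ ⟶ P)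
    (z₂ : (Over.map j).obj Z₂ ⟶ P) (h : (Over.map j).map h₁ ≫ z₁ = (Over.map j).map h₂ ≫ z₂) :
    (Over.map j).map h₁ ≫ genMove j e z₁ = (Over.map j).map h₂ ≫ genMove j e z₂ := by
  rw [← genMove_nat, ← genMove_nat, h]

/-- Extension of the generic isomorphism to a morphism. -/
theorem exists_hom (hX : Pi1.IsNormalScheme X) (cU : Spec X.functionField ⟶ U₀) (hcU : cU ≫ j = gen X)
    (ha : NonAbH1.IsPseudoTorsorSch a) [IsFinite P.hom] [Flat P.hom] [Surjective P.hom]
    [IsIntegralHom Q.hom] :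
    ∃ φ : P ⟶ Q, ∀ {Z : Over U₀} (s : Z.left ⟶ Spec X.functionField), s ≫ cU = Z.hom →
      ∀ z : (Over.map j).obj Z ⟶ P, genMove j e z = z ≫ φ := by
  -- the generic fibre
  let ZP : Over U₀ := Over.mk (pullback.snd P.hom (gen X) ≫ cU)
  let zP : (Over.map j).obj ZP ⟶ P := Over.homMk (pullback.fst P.hom (gen X)) (by
    show pullback.fst P.hom (gen X) ≫ P.hom = (pullback.snd P.hom (gen X) ≫ cU) ≫ j
    rw [Category.assoc, hcU, pullback.condition])
  let gP : pullback P.hom (gen X) ⟶ Q.left := (genMove j e zP).left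
  -- a point in a finite extension
  obtain ⟨L, _, _, _, x', hx'⟩ :
      ∃ (L : Type u) (_ : Field L) (_ : Algebra X.functionField L) (_ : FiniteDimensional X.functionField L)
        (x : Spec (CommRingCat.of L) ⟶ pullback P.hom (gen X)),
        x ≫ pullback.snd P.hom (gen X) = Spec.map (CommRingCat.ofHom (algebraMap X.functionField L)) := by
    haveI : Nonempty (pullback P.hom (gen X) : Scheme.{u}) := by
      have : Surjective (pullback.snd P.hom (gen X)) := inferInstance
      obtain ⟨y, -⟩ := (pullback.snd P.hom (gen X)).surjective (IsLocalRing.closedPoint _)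
      exact ⟨y⟩
    exact Groth.TorsProper.exists_finite_point X.functionField (pullback.snd P.hom (gen X))
  let gL : Spec (CommRingCat.of L) ⟶ U₀ :=
    Spec.map (CommRingCat.ofHom (algebraMap X.functionField L)) ≫ cU
  let ZL : Over U₀ := Over.mk gL
  let zL : (Over.map j).obj ZL ⟶ P := Over.homMk (x' ≫ pullback.fst P.hom (gen X)) (by
    show (x' ≫ pullback.fst P.hom (gen X)) ≫ P.hom = (Spec.map _ ≫ cU) ≫ j
    rw [Category.assoc, Category.assoc, hcU, pullback.condition, reassoc_of% hx'])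
  suffices hloc : ∃ φ : P.left ⟶ Q.left, φ ≫ Q.hom = P.hom ∧ pullback.fst P.hom (gen X) ≫ φ = gP by
    obtain ⟨φ, hφ, hφg⟩ := hloc
    refine ⟨Over.homMk φ hφ, fun {Z} s hs z => ?_⟩
    let r : Z ⟶ ZP := Over.homMk (pullback.lift z.left s (by
        rw [Over.w z, ← hcU, reassoc_of% hs]; rfl)) (by
      show pullback.lift z.left s _ ≫ pullback.snd P.hom (gen X) ≫ cU = Z.hom
      rw [pullback.lift_snd_assoc, hs])
    have hr : z = (Over.map j).map r ≫ zP :=
      Over.OverMorphism.ext (pullback.lift_fst _ _ _).symm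
    conv_lhs => rw [hr, genMove_nat]
    conv_rhs => rw [hr]
    apply Over.OverMorphism.ext
    show r.left ≫ gP = (r.left ≫ pullback.fst P.hom (gen X)) ≫ φ
    rw [Category.assoc, hφg]
  haveI : QuasiCompact (pullback.fst P.hom (gen X)) := inferInstance
  haveI : IsSchemeTheoreticallyDominant (pullback.fst P.hom (gen X)) :=
    IsSchemeTheoreticallyDominant.of_isPullback (IsPullback.of_hasPullback P.hom (gen X)).flip
  refine Groth.NeronArea.exists_glue_of_local P.hom Q.hom (pullback.fst P.hom (gen X)) gP fun pt => ?_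
  obtain ⟨_, ⟨V, hV, rfl⟩, hxV, -⟩ :=
    X.isBasis_affineOpens.exists_subset_of_mem_open (Set.mem_univ (P.hom pt)) isOpen_univ
  haveI : Nonempty (V : Scheme.{u}) := ⟨⟨_, hxV⟩⟩
  haveI : Nonempty V := ⟨⟨_, hxV⟩⟩
  haveI : IsIntegrallyClosed Γ(X, V) := Groth.Variety2.isIntegrallyClosed_Γ (fun y => (hX y).2) V
  haveI : IsFractionRing Γ(X, V) X.functionField := functionField_isFractionRing_of_isAffineOpen X V hV
  let W : P.left.Opens := P.hom ⁻¹ᵁ V
  have hW : IsAffineOpen W := hV.preimage P.hom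
  letI : Algebra Γ(X, V) Γ(P.left, W) := (P.hom.app V).hom.toAlgebra
  haveI : Module.Flat Γ(X, V) Γ(P.left, W) := by
    have h := HasRingHomProperty.appLE (P := @Flat) P.hom inferInstance ⟨V, hV⟩ ⟨W, hW⟩ le_rfl
    rw [Scheme.Hom.appLE_eq_app] at h
    exact h
  letI : Algebra Γ(X, V) L :=
    ((algebraMap X.functionField L).comp (algebraMap Γ(X, V) X.functionField)).toAlgebra
  haveI : IsScalarTower Γ(X, V) X.functionField L := IsScalarTower.of_algebraMap_eq' rfl
  let A' := integralClosure Γ(X, V) L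
  let ιK : (X.functionField : Type u) →ₐ[Γ(X, V)] L := IsScalarTower.toAlgHom _ _ _
  have hKinj : Function.Injective (algebraMap Γ(X, V) X.functionField) := IsFractionRing.injective _ _
  have hmeet : ∀ x y, ιK x = A'.val y → ∃ r, algebraMap Γ(X, V) X.functionField r = x := fun x y h => by
    have h1 : IsIntegral Γ(X, V) (ιK x) := h ▸ y.2
    rw [isIntegral_algHom_iff ιK (algebraMap X.functionField L).injective] at h1
    exact IsIntegrallyClosed.isIntegral_iff.1 h1
  have hVgen : Spec.map (CommRingCat.ofHom (algebraMap Γ(X, V) X.functionField)) ≫ hV.fromSpec = gen X :=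
    hV.fromSpecStalk_eq_fromSpecStalk _
  have hWV : hW.fromSpec ≫ P.hom =
      Spec.map (CommRingCat.ofHom (algebraMap Γ(X, V) Γ(P.left, W))) ≫ hV.fromSpec := by
    rw [← IsAffineOpen.SpecMap_appLE_fromSpec P.hom hV hW le_rfl, Scheme.Hom.appLE_eq_app]
    rfl
  have hcomm : ∀ (R : Type u) [CommRing R] [Algebra Γ(X, V) R],
      Spec.map (CommRingCat.ofHom (Algebra.TensorProduct.includeLeftRingHom :
          Γ(P.left, W) →+* Γ(P.left, W) ⊗[Γ(X, V)] R)) ≫ hW.fromSpec ≫ P.hom =
        Spec.map (CommRingCat.ofHom (Algebra.TensorProduct.includeRight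
          (R := Γ(X, V)) (A := Γ(P.left, W)) (B := R)).toRingHom) ≫
          Spec.map (CommRingCat.ofHom (algebraMap Γ(X, V) R)) ≫ hV.fromSpec := fun R _ _ => by
    rw [hWV, ← Spec.map_comp_assoc, ← Spec.map_comp_assoc]
    congr 2
    ext r
    exact (Algebra.TensorProduct.algebraMap_apply r).symm.trans
      (Algebra.TensorProduct.includeRight.commutes r).symm
  -- the two rings over which the morphism is given
  let iK := Spec.map (CommRingCat.ofHom (Algebra.TensorProduct.includeRight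
    (R := Γ(X, V)) (A := Γ(P.left, W)) (B := (X.functionField : Type u))).toRingHom)
  let Z₁ : Over U₀ := Over.mk (iK ≫ cU)
  let z₁ : (Over.map j).obj Z₁ ⟶ P := Over.homMk
    (Spec.map (CommRingCat.ofHom Algebra.TensorProduct.includeLeftRingHom) ≫ hW.fromSpec) (by
      show (_ ≫ hW.fromSpec) ≫ P.hom = (iK ≫ cU) ≫ j
      rw [Category.assoc, Category.assoc, hcU, hcomm, hVgen])
  let m₁ := (genMove j e z₁).left
  have hx₀ : (x' ≫ pullback.fst P.hom (gen X)) ≫ P.hom =
      Spec.map (CommRingCat.ofHom (algebraMap Γ(X, V) L)) ≫ hV.fromSpec := by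
    rw [show (x' ≫ pullback.fst P.hom (gen X)) ≫ P.hom = _ ≫ j from Over.w zL]
    show (Spec.map _ ≫ cU) ≫ j = _
    rw [Category.assoc, hcU, ← hVgen, ← Spec.map_comp_assoc]
    rfl
  obtain ⟨x, hxp, hxL⟩ := exists_point_intClosure hV P.hom L _ hx₀
  obtain ⟨y, hyp, hyL⟩ := exists_point_intClosure hV Q.hom L (genMove j e zL).left (by
    exact (Over.w (genMove j e zL)).trans ((Over.w zL).symm.trans hx₀))
  let T : Over X :=
    Over.mk (Spec.map (CommRingCat.ofHom (algebraMap Γ(X, V) A')) ≫ hV.fromSpec)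
  let xT : T ⟶ P := Over.homMk x hxp
  let yT : T ⟶ Q := Over.homMk y hyp
  let ψ : P ⊗ T ⟶ Q :=
    lift (Groth.NeronArea.torsorDiv a ha (fst P T) (snd P T ≫ xT)) (snd P T ≫ yT) ≫ b.act
  let k : Spec (CommRingCat.of (Γ(P.left, W) ⊗[Γ(X, V)] A')) ⟶ (P ⊗ T).left :=
    pullback.lift (Spec.map (CommRingCat.ofHom Algebra.TensorProduct.includeLeftRingHom) ≫ hW.fromSpec)
      (Spec.map (CommRingCat.ofHom (Algebra.TensorProduct.includeRight
        (R := Γ(X, V)) (A := Γ(P.left, W)) (B := A')).toRingHom))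
      (by rw [Category.assoc]; exact hcomm A')
  let m₂ := k ≫ ψ.left
  -- they agree
  let sK := Spec.map (CommRingCat.ofHom
    (Algebra.TensorProduct.map (AlgHom.id Γ(X, V) Γ(P.left, W)) ιK).toRingHom)
  let sA := Spec.map (CommRingCat.ofHom
    (Algebra.TensorProduct.map (AlgHom.id Γ(X, V) Γ(P.left, W)) A'.val).toRingHom)
  let iL := Spec.map (CommRingCat.ofHom (Algebra.TensorProduct.includeRight
    (R := Γ(X, V)) (A := Γ(P.left, W)) (B := L)).toRingHom)
  have hrK : sK ≫ iK = iL ≫ Spec.map (CommRingCat.ofHom (algebraMap X.functionField L)) := by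
    rw [← Spec.map_comp, ← Spec.map_comp]
    congr 1
  have hrA : sA ≫ Spec.map (CommRingCat.ofHom (Algebra.TensorProduct.includeRight
      (R := Γ(X, V)) (A := Γ(P.left, W)) (B := A')).toRingHom) =
      iL ≫ Spec.map (CommRingCat.ofHom A'.val.toRingHom) := by
    rw [← Spec.map_comp, ← Spec.map_comp]
    congr 1
  have hlK : sK ≫ Spec.map (CommRingCat.ofHom Algebra.TensorProduct.includeLeftRingHom) =
      Spec.map (CommRingCat.ofHom Algebra.TensorProduct.includeLeftRingHom) := by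
    rw [← Spec.map_comp]
    congr 1
    ext r
    simp
  have hlA : sA ≫ Spec.map (CommRingCat.ofHom Algebra.TensorProduct.includeLeftRingHom) =
      Spec.map (CommRingCat.ofHom Algebra.TensorProduct.includeLeftRingHom) := by
    rw [← Spec.map_comp]
    congr 1
  let Z₃ : Over U₀ := Over.mk (sK ≫ iK ≫ cU)
  let h31 : Z₃ ⟶ Z₁ := Over.homMk sK rfl
  let h3L : Z₃ ⟶ ZL := Over.homMk iL (by
    show iL ≫ Spec.map _ ≫ cU = sK ≫ iK ≫ cU
    rw [reassoc_of% hrK])
  let k₃ : (Over.map j).obj Z₃ ⟶ P ⊗ T := Over.homMk (sA ≫ k) (by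
    rw [Category.assoc]
    show sA ≫ k ≫ pullback.fst P.hom T.hom ≫ P.hom = (sK ≫ iK ≫ cU) ≫ j
    rw [pullback.lift_fst_assoc, Category.assoc, reassoc_of% hlA, ← reassoc_of% hlK, hcomm, hVgen,
      Category.assoc, Category.assoc, hcU])
  have hk₁ : k₃ ≫ fst P T = (Over.map j).map h31 ≫ z₁ := Over.OverMorphism.ext (by
    show (sA ≫ k) ≫ pullback.fst P.hom T.hom = sK ≫ _ ≫ hW.fromSpec
    rw [Category.assoc, pullback.lift_fst, reassoc_of% hlA, reassoc_of% hlK])
  have hk₂ : ∀ {R : Over X} (t : T ⟶ R) (w : (Over.map j).obj ZL ⟶ R),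
      Spec.map (CommRingCat.ofHom A'.val.toRingHom) ≫ t.left = w.left →
      k₃ ≫ snd P T ≫ t = (Over.map j).map h3L ≫ w := fun t w hw => Over.OverMorphism.ext (by
    show (sA ≫ k) ≫ pullback.snd P.hom T.hom ≫ t.left = iL ≫ w.left
    rw [Category.assoc, pullback.lift_snd_assoc, reassoc_of% hrA, hw])
  have hmove : genMove j e (k₃ ≫ snd P T ≫ xT) = k₃ ≫ snd P T ≫ yT := by
    rw [hk₂ xT zL hxL, hk₂ yT (genMove j e zL) hyL, genMove_nat]
  have hagree : (Over.map j).map h31 ≫ genMove j e z₁ = k₃ ≫ ψ := by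
    rw [← genMove_nat, ← hk₁]
    conv_lhs => rw [← Groth.NeronArea.torsorDiv_act a ha (fst P T) (snd P T ≫ xT), ← Category.assoc,
      comp_lift, genMove_act, hmove]
    simp only [ψ, comp_lift_assoc]
  have hm : sK ≫ m₁ = sA ≫ m₂ := (congrArg CommaMorphism.left hagree).trans (Category.assoc _ _ _)
  -- lift both to the affine piece of `Q`
  have hWQ : IsAffineOpen (Q.hom ⁻¹ᵁ V) := hV.preimage Q.hom
  haveI : IsAffine (Q.hom ⁻¹ᵁ V : Scheme.{u}) := hWQ
  haveI : IsAffine (V : Scheme.{u}) := hV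
  have hland : ∀ {Z : Scheme.{u}} (m : Z ⟶ Q.left) (g : Z ⟶ Spec Γ(X, V)), m ≫ Q.hom = g ≫ hV.fromSpec →
      Set.range m ⊆ Set.range (Q.hom ⁻¹ᵁ V).ι := by
    rintro Z m g hg _ ⟨z, rfl⟩
    rw [Scheme.Opens.range_ι]
    show Q.hom (m z) ∈ V
    rw [← Scheme.Hom.comp_apply, hg, Scheme.Hom.comp_apply]
    exact hV.range_fromSpec.le (Set.mem_range_self _)
  have hm₁ : m₁ ≫ Q.hom = (iK ≫ Spec.map (CommRingCat.ofHom (algebraMap Γ(X, V) X.functionField))) ≫
      hV.fromSpec := by
    rw [show m₁ ≫ Q.hom = (iK ≫ cU) ≫ j from Over.w (genMove j e z₁), Category.assoc, Category.assoc,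
      hcU, hVgen]
  have hm₂ : m₂ ≫ Q.hom = (Spec.map (CommRingCat.ofHom (Algebra.TensorProduct.includeRight
      (R := Γ(X, V)) (A := Γ(P.left, W)) (B := A')).toRingHom) ≫
      Spec.map (CommRingCat.ofHom (algebraMap Γ(X, V) A'))) ≫ hV.fromSpec := by
    rw [Category.assoc, Category.assoc, Over.w ψ]
    show k ≫ pullback.fst P.hom T.hom ≫ P.hom = _
    rw [pullback.condition, pullback.lift_snd_assoc]
    rfl
  obtain ⟨d, hd⟩ := exists_descend ιK A'.val hKinj Subtype.val_injective hmeet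
    (IsOpenImmersion.lift (Q.hom ⁻¹ᵁ V).ι m₁ (hland m₁ _ hm₁))
    (IsOpenImmersion.lift (Q.hom ⁻¹ᵁ V).ι m₂ (hland m₂ _ hm₂))
    (by
      rw [← cancel_mono (Q.hom ⁻¹ᵁ V).ι, Category.assoc, IsOpenImmersion.lift_fac, Category.assoc,
        IsOpenImmersion.lift_fac]
      exact hm)
  have hd' : Spec.map (CommRingCat.ofHom Algebra.TensorProduct.includeLeftRingHom) ≫ d ≫
      (Q.hom ⁻¹ᵁ V).ι = m₁ := by
    rw [reassoc_of% hd, IsOpenImmersion.lift_fac]
  have hdV : d ≫ (Q.hom ∣_ V) =
      Spec.map (CommRingCat.ofHom (algebraMap Γ(X, V) Γ(P.left, W))) ≫ hV.isoSpec.inv := by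
    refine hom_ext_of_injective (CommRingCat.ofHom (Algebra.TensorProduct.includeLeftRingHom :
        Γ(P.left, W) →+* Γ(P.left, W) ⊗[Γ(X, V)] (X.functionField : Type u)))
      (includeLeft_injective (K := (X.functionField : Type u)) Γ(P.left, W) hKinj) ?_
    rw [← cancel_mono (Scheme.Opens.ι V)]
    simp only [Category.assoc, IsAffineOpen.isoSpec_inv_ι, morphismRestrict_ι]
    rw [reassoc_of% hd', hm₁, Category.assoc, ← hWV, hcomm, hVgen]
  refine ⟨W, hW.isoSpec.hom ≫ d ≫ (Q.hom ⁻¹ᵁ V).ι, hxV, ?_, fun {Z} t w htw => ?_⟩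
  · simp only [Category.assoc]
    rw [← morphismRestrict_ι, reassoc_of% hdV, IsAffineOpen.isoSpec_inv_ι, ← hWV,
      IsAffineOpen.isoSpec_hom_fromSpec_assoc]
  · have hA : (t ≫ hW.isoSpec.hom) ≫ Spec.map (CommRingCat.ofHom (algebraMap Γ(X, V) Γ(P.left, W))) =
        (w ≫ pullback.snd P.hom (gen X)) ≫
          Spec.map (CommRingCat.ofHom (algebraMap Γ(X, V) X.functionField)) := by
      rw [← cancel_mono hV.fromSpec]
      simp only [Category.assoc]
      rw [← hWV, IsAffineOpen.isoSpec_hom_fromSpec_assoc, reassoc_of% htw, hVgen, pullback.condition]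
    let r := pullback.lift _ _ hA ≫
      (pullbackSpecIso Γ(X, V) Γ(P.left, W) (X.functionField : Type u)).hom
    have hr1 : r ≫ Spec.map (CommRingCat.ofHom Algebra.TensorProduct.includeLeftRingHom) =
        t ≫ hW.isoSpec.hom := by
      simp only [r, Category.assoc, pullbackSpecIso_hom_fst]
      exact pullback.lift_fst _ _ _
    have hr2 : r ≫ iK = w ≫ pullback.snd P.hom (gen X) := by
      simp only [r, iK, Category.assoc]
      rw [show Spec.map (CommRingCat.ofHom (Algebra.TensorProduct.includeRight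
        (R := Γ(X, V)) (A := Γ(P.left, W)) (B := (X.functionField : Type u))).toRingHom) = Spec.map _ from rfl]
      erw [pullbackSpecIso_hom_snd]
      exact pullback.lift_snd _ _ _
    let Zt : Over U₀ := Over.mk (r ≫ iK ≫ cU)
    let t₁ : Zt ⟶ Z₁ := Over.homMk r rfl
    let tP : Zt ⟶ ZP := Over.homMk w (by
      show w ≫ pullback.snd P.hom (gen X) ≫ cU = r ≫ iK ≫ cU
      rw [reassoc_of% hr2])
    have hz : (Over.map j).map t₁ ≫ z₁ = (Over.map j).map tP ≫ zP := Over.OverMorphism.ext (by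
      show r ≫ _ ≫ hW.fromSpec = w ≫ pullback.fst P.hom (gen X)
      rw [reassoc_of% hr1, IsAffineOpen.isoSpec_hom_fromSpec, htw])
    have := congrArg CommaMorphism.left (genMove_congr j e t₁ tP z₁ zP hz)
    rw [← reassoc_of% hr1, hd']
    exact this

/-- An isomorphism of finite flat torsors over the generic point of a normal integral scheme extends. -/
theorem nonempty_equivIso (hX : Pi1.IsNormalScheme X) (cU : Spec X.functionField ⟶ U₀)
    (hcU : cU ≫ j = gen X) (ha : NonAbH1.IsPseudoTorsorSch a) (hb : NonAbH1.IsPseudoTorsorSch b)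
    [Flat G.hom] [IsFinite P.hom] [Flat P.hom] [Surjective P.hom] [IsFinite Q.hom] [Flat Q.hom]
    [Surjective Q.hom] (e : NonAbH1.EquivIso (a.bc j) (b.bc j)) :
    Nonempty (NonAbH1.EquivIso a b) := by
  obtain ⟨φ, hφ⟩ := exists_hom j e hX cU hcU ha
  obtain ⟨φ', hφ'⟩ := exists_hom j (symmIso e) hX cU hcU hb
  have ext_gen : ∀ {Y R : Over X} [Flat Y.hom] [IsSeparated R.hom] {f g : Y ⟶ R},
      (∀ {Z : Over U₀} (s : Z.left ⟶ Spec X.functionField), s ≫ cU = Z.hom →
        ∀ z : (Over.map j).obj Z ⟶ Y, z ≫ f = z ≫ g) → f = g := by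
    intro Y R _ _ f g h
    let ZY : Over U₀ := Over.mk (pullback.snd Y.hom (gen X) ≫ cU)
    let zY : (Over.map j).obj ZY ⟶ Y := Over.homMk (pullback.fst Y.hom (gen X)) (by
      show pullback.fst Y.hom (gen X) ≫ Y.hom = (pullback.snd Y.hom (gen X) ≫ cU) ≫ j
      rw [Category.assoc, hcU, pullback.condition])
    haveI : IsSchemeTheoreticallyDominant (pullback.fst Y.hom (gen X)) :=
      IsSchemeTheoreticallyDominant.of_isPullback (IsPullback.of_hasPullback Y.hom (gen X)).flip
    exact Over.OverMorphism.ext (Groth.GrpschAbsch.ext_of_isSchemeTheoreticallyDominant R.hom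
      ((Over.w f).trans (Over.w g).symm) (pullback.fst Y.hom (gen X))
      (congrArg CommaMorphism.left (h (Z := ZY) (pullback.snd Y.hom (gen X)) rfl zY)))
  have h1 : φ ≫ φ' = 𝟙 P := ext_gen fun s hs z => by
    rw [← Category.assoc, ← hφ s hs, ← hφ' s hs, genMove_symm, Category.comp_id]
  have h2 : φ' ≫ φ = 𝟙 Q := ext_gen fun s hs z => by
    have hh := genMove_symm j (symmIso e) z
    rw [show symmIso (symmIso e) = e from rfl] at hh
    rw [← Category.assoc, ← hφ' s hs, ← hφ s hs, hh, Category.comp_id]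
  haveI : Flat (G ⊗ P).hom := inferInstanceAs (Flat (pullback.fst G.hom P.hom ≫ G.hom))
  refine ⟨⟨⟨φ, φ', h1, h2⟩, ext_gen fun s hs z => ?_⟩⟩
  have hz : z = lift (z ≫ fst G P) (z ≫ snd G P) := by
    rw [← comp_lift, lift_fst_snd, Category.comp_id]
  rw [hz, ← Category.assoc, ← hφ s hs, genMove_act, hφ s hs, lift_whiskerLeft_assoc]

end Groth.TorsNormal
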